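import Mathlib
import Cfsg.Agent.PrimeDegree.ElevenData

/-!
Finite checks for the two actions of `SL(2, 11)` on eleven points.
-/

set_option autoImplicit false

namespace CfsgLib.H29.PSLEleven

open CfsgLib.PrimeDegree.Eleven

/-- Entries of a matrix of size two. -/
abbrev T4 := F11 × F11 × F11 × F11

/-- The product of two matrices given by entries. -/
def mul4 (x y : T4) : T4 :=
  (x.1 * y.1 + x.2.1 * y.2.2.1, x.1 * y.2.1 + x.2.1 * y.2.2.2,
    x.2.2.1 * y.1 + x.2.2.2 * y.2.2.1, x.2.2.1 * y.2.1 + x.2.2.2 * y.2.2.2)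

/-- Powers of a matrix given by entries. -/
def pow4 (x : T4) : ℕ → T4
  | 0 => (1, 0, 0, 1)
  | n + 1 => mul4 (pow4 x n) x

/-- The scalar matrices of determinant one. -/
def isPM (x : T4) : Bool := x == (1, 0, 0, 1) || x == (-1, 0, 0, -1)

/-- The fixed-point test. -/
def fixes (y : F11 → F11) (x : T4) (j : F11) : Bool := bru y x.1 x.2.1 x.2.2.1 x.2.2.2 j == j

/-- The eleven points. -/
def pts : List F11 := [0, 1, 2, 3, 4, 5, 6, 7, 8, 9, 10]

theorem mem_pts : ∀ j : F11, j ∈ pts := by decide +kernel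

/-- Two elements generating an icosahedral group have a common fixed point. -/
def common (x : T4) : Bool :=
  pts.any fun j => (fixes yA (0, 1, -1, 0) j && fixes yA x j) ||
    (fixes yB (0, 1, -1, 0) j && fixes yB x j)

/-- The relations of the icosahedral group. -/
def rels (x : T4) : Bool :=
  isPM (pow4 x 3) && !(isPM x) && isPM (pow4 (mul4 (0, 1, -1, 0) x) 5)

theorem common_of_rels : ∀ a b c d : F11, a * d - b * c = 1 → rels (a, b, c, d) = true →
    common (a, b, c, d) = true := by decide +kernel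

theorem quad_repr : ∀ a b c : F11, -(a * a) - b * c = 1 →
    ∃ u v : F11, -c * u * u + 2 * a * u * v + b * v * v = 1 := by decide +kernel

theorem stab_AB : ∀ k : F11, ∃ a b c d : F11, a * d - b * c = 1 ∧
    fixes yA (a, b, c, d) 0 = true ∧ fixes yB (a, b, c, d) k = false := by decide +kernel

theorem stab_AA : ∀ k : F11, k ≠ 0 → ∃ a b c d : F11, a * d - b * c = 1 ∧
    fixes yA (a, b, c, d) 0 = true ∧ fixes yA (a, b, c, d) k = false := by decide +kernel

theorem stab_BB : ∀ k : F11, k ≠ 0 → ∃ a b c d : F11, a * d - b * c = 1 ∧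
    fixes yB (a, b, c, d) 0 = true ∧ fixes yB (a, b, c, d) k = false := by decide +kernel

theorem stab_move : ∀ k : F11, k ≠ 0 → ∃ a b c d : F11, a * d - b * c = 1 ∧
    bru yA a b c d 0 = 0 ∧ bru yA a b c d k = 1 := by decide +kernel

theorem twist_exists : ∃ k : F11, ∀ a b c d : F11, a * d - b * c = 1 →
    fixes yA (a, b, c, d) 0 = fixes yB (a, 2 * b, 6 * c, d) k := by decide +kernel

end CfsgLib.H29.PSLEleven
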