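import Mathlib
import Cfsg.Agent.H29.PSLEleven.Data
import Cfsg.Agent.H29.Dickson.Exists
import Cfsg.Agent.PrimeDegree.Bruhat

/-!
The icosahedral subgroups of `PSL(2, 11)`.
-/

set_option autoImplicit false

namespace CfsgLib.H29.PSLEleven

open CfsgLib.PrimeDegree.Eleven Matrix MulAction
open scoped MatrixGroups Pointwise

/-- `PSL(2, 11)`. -/
abbrev G0 := Matrix.ProjectiveSpecialLinearGroup (Fin 2) F11

/-- The class of a matrix. -/
def mk0 : SL(2, F11) →* G0 := QuotientGroup.mk' _

/-- The entries. -/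
def ent (g : SL(2, F11)) : T4 := (g 0 0, g 0 1, g 1 0, g 1 1)

theorem ent_mul (g h : SL(2, F11)) : ent (g * h) = mul4 (ent g) (ent h) := by
  simp [ent, mul4, Matrix.mul_apply, Fin.sum_univ_two]

theorem ent_one : ent 1 = (1, 0, 0, 1) := by simp [ent]

theorem ent_pow (g : SL(2, F11)) : ∀ n, ent (g ^ n) = pow4 (ent g) n
  | 0 => by rw [pow_zero, ent_one]; rfl
  | n + 1 => by rw [pow_succ, ent_mul, ent_pow g n]; rfl

theorem ent_injective : Function.Injective ent := by
  intro g h e
  simp only [ent, Prod.mk.injEq] at e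
  ext i j
  fin_cases i <;> fin_cases j
  exacts [e.1, e.2.1, e.2.2.1, e.2.2.2]

/-- A matrix with given entries. -/
def mat (a b c d : F11) (h : a * d - b * c = 1) : SL(2, F11) :=
  ⟨!![a, b; c, d], by rw [Matrix.det_fin_two_of]; exact h⟩

theorem ent_mat (a b c d : F11) (h : a * d - b * c = 1) : ent (mat a b c d h) = (a, b, c, d) := rfl

theorem mk0_eq_one_iff (g : SL(2, F11)) : mk0 g = 1 ↔ isPM (ent g) = true := by
  rw [show mk0 g = 1 ↔ g ∈ Subgroup.center SL(2, F11) from QuotientGroup.eq_one_iff g]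
  rw [Matrix.SpecialLinearGroup.mem_center_iff]
  simp only [Fintype.card_fin, isPM, Bool.or_eq_true, beq_iff_eq]
  constructor
  · rintro ⟨r, hr, hg⟩
    rcases sq_eq_one_iff.mp hr with rfl | rfl
    · exact Or.inl (by simp [ent, ← hg])
    · exact Or.inr (by simp [ent, ← hg])
  · intro h
    rcases h with h | h
    · exact ⟨1, one_pow 2, by
        simp only [ent, Prod.mk.injEq] at h; obtain ⟨h1, h2, h3, h4⟩ := h
        ext i j; fin_cases i <;> fin_cases j <;> simp [h1, h2, h3, h4]⟩
    · exact ⟨-1, neg_one_sq, by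
        simp only [ent, Prod.mk.injEq] at h; obtain ⟨h1, h2, h3, h4⟩ := h
        ext i j; fin_cases i <;> fin_cases j <;> simp [h1, h2, h3, h4]⟩

/-- The two involutive maps. -/
def yy : Bool → F11 → F11
  | true => yA
  | false => yB

theorem good : ∀ b, GoodY (yy b)
  | true => goodA
  | false => goodB

/-- The two actions. -/
noncomputable def act (b : Bool) : G0 →* Equiv.Perm F11 := pslHom (good b)

theorem act_mk0 (b : Bool) (g : SL(2, F11)) (j : F11) :
    act b (mk0 g) j = bru (yy b) (g 0 0) (g 0 1) (g 1 0) (g 1 1) j := rfl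

theorem mk0_surjective : Function.Surjective mk0 := QuotientGroup.mk'_surjective _

theorem act_trans (b : Bool) (k : F11) : act b (mk0 (mat 1 k 0 1 (by ring))) 0 = k := by
  rw [act_mk0]
  simp [mat, bru]

/-- A point stabilizer. -/
noncomputable def St (b : Bool) (j : F11) : Subgroup G0 :=
  (stabilizer (Equiv.Perm F11) j).comap (act b)

theorem mem_St {b : Bool} {j : F11} {x : G0} : x ∈ St b j ↔ act b x j = j := by
  simp [St]

theorem St_conj (b : Bool) (g : G0) (j : F11) :
    MulAut.conj g • St b j = St b (act b g j) := by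
  ext x
  rw [Subgroup.mem_pointwise_smul_iff_inv_smul_mem, mem_St, mem_St, ← map_inv, MulAut.smul_def,
    MulAut.conj_apply, inv_inv, map_mul, map_mul, map_inv, Equiv.Perm.mul_apply,
    Equiv.Perm.mul_apply, Equiv.Perm.inv_eq_iff_eq]

theorem index_St (b : Bool) (j : F11) : (St b j).index = 11 := by
  let inst : MulAction G0 F11 := MulAction.compHom F11 (act b)
  have hpre : IsPretransitive G0 F11 :=
    ⟨fun x y => ⟨mk0 (mat 1 y 0 1 (by ring)) * (mk0 (mat 1 x 0 1 (by ring)))⁻¹, by
      show act b _ x = y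
      rw [map_mul, map_inv, Equiv.Perm.mul_apply,
        show (act b (mk0 (mat 1 x 0 1 (by ring))))⁻¹ x = 0 from by
          rw [Equiv.Perm.inv_eq_iff_eq, act_trans b x], act_trans b y]⟩⟩
  have h : (stabilizer G0 j).index = Nat.card F11 := MulAction.index_stabilizer_of_transitive G0 j
  rw [Nat.card_zmod] at h
  rw [show St b j = stabilizer G0 j from ?_]
  · exact h
  · ext x
    rw [mem_St, mem_stabilizer_iff]
    rfl

theorem card_St (b : Bool) (j : F11) : Nat.card (St b j) = 60 := by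
  have h := Subgroup.index_mul_card (St b j)
  rw [index_St, card_psl] at h
  omega

/-- The two-generator presentation of the icosahedral group, used one way. -/
theorem A5_gens : ∃ s t : alternatingGroup (Fin 5),
    s ≠ 1 ∧ s ^ 2 = 1 ∧ t ≠ 1 ∧ t ^ 3 = 1 ∧ (s * t) ^ 5 = 1 ∧ Subgroup.closure {s, t} = ⊤ := by
  have hex : ∃ s t : alternatingGroup (Fin 5),
      s ≠ 1 ∧ s ^ 2 = 1 ∧ t ≠ 1 ∧ t ^ 3 = 1 ∧ (s * t) ^ 5 = 1 ∧ s * t ≠ 1 := by
    refine ⟨⟨Equiv.swap 0 1 * Equiv.swap 2 3, Equiv.Perm.mem_alternatingGroup.mpr (by decide)⟩,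
      ⟨Equiv.swap 0 2 * Equiv.swap 2 4, Equiv.Perm.mem_alternatingGroup.mpr (by decide)⟩, ?_⟩
    decide +kernel
  obtain ⟨s, t, h1, h2, h3, h4, h5, h6⟩ := hex
  refine ⟨s, t, h1, h2, h3, h4, h5, ?_⟩
  set K := Subgroup.closure ({s, t} : Set (alternatingGroup (Fin 5))) with hK
  have hs : s ∈ K := Subgroup.subset_closure (Or.inl rfl)
  have ht : t ∈ K := Subgroup.subset_closure (Or.inr rfl)
  have hd : ∀ {x : alternatingGroup (Fin 5)} {n : ℕ}, x ∈ K → n.Prime → x ^ n = 1 → x ≠ 1 →
      n ∣ Nat.card K := by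
    intro x n hx hn h hne
    have := Fact.mk hn
    rw [← orderOf_eq_prime h hne, ← Subgroup.orderOf_mk x hx]
    exact orderOf_dvd_natCard _
  have h30 : 30 ∣ Nat.card K := by
    have a := hd hs Nat.prime_two h2 h1
    have b := hd ht Nat.prime_three h4 h3
    have c := hd (mul_mem hs ht) (by norm_num) h5 h6
    omega
  have h60 : Nat.card (alternatingGroup (Fin 5)) = 60 := by
    rw [nat_card_alternatingGroup, Nat.card_fin]; rfl
  have hmul := Subgroup.index_mul_card K
  rw [h60] at hmul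
  obtain ⟨m, hm⟩ := h30
  rw [hm] at hmul
  have hi : K.index ∣ 2 := ⟨m, by nlinarith⟩
  rcases (Nat.dvd_prime Nat.prime_two).mp hi with hi | hi
  · exact Subgroup.index_eq_one.mp hi
  · have := Subgroup.normal_of_index_eq_two hi
    have hsim : IsSimpleGroup (alternatingGroup (Fin 5)) := alternatingGroup.isSimpleGroup_five
    rcases IsSimpleGroup.eq_bot_or_eq_top_of_normal K inferInstance with h | h
    · rw [h, Subgroup.mem_bot] at hs
      exact absurd hs h1
    · exact h

theorem exists_conj_standard (s : G0) (h2 : s ^ 2 = 1) (h1 : s ≠ 1) :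
    ∃ g : G0, g⁻¹ * s * g = mk0 (mat 0 1 (-1) 0 (by ring)) := by
  obtain ⟨x, rfl⟩ := mk0_surjective s
  rw [← map_pow, mk0_eq_one_iff, ent_pow] at h2
  rw [Ne, mk0_eq_one_iff] at h1
  have key : ∀ a b c d : F11, a * d - b * c = 1 → isPM (pow4 (a, b, c, d) 2) = true →
      ¬ isPM (a, b, c, d) = true → d = -a := by decide +kernel
  have hd : x 1 1 = -(x 0 0) := key _ _ _ _ (det_eq x) h2 h1
  have hdet := det_eq x
  rw [hd] at hdet
  obtain ⟨u, v, huv⟩ := quad_repr (x 0 0) (x 0 1) (x 1 0) (by linear_combination hdet)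
  refine ⟨mk0 (mat u (-(x 0 0 * u + x 0 1 * v)) v (-(x 1 0 * u - x 0 0 * v))
    (by linear_combination huv)), ?_⟩
  rw [mul_assoc, inv_mul_eq_iff_eq_mul, ← map_mul, ← map_mul]
  refine congrArg mk0 (ent_injective ?_)
  rw [ent_mul, ent_mul, ent_mat, ent_mat]
  simp only [mul4, ent, hd, Prod.mk.injEq]
  refine ⟨by ring, ?_, by ring, ?_⟩
  · linear_combination u * hdet
  · linear_combination v * hdet

theorem eq_St_of_A5 (L : Subgroup G0) (hL : Nonempty (L ≃* alternatingGroup (Fin 5))) :
    ∃ b j, L = St b j := by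
  obtain ⟨e⟩ := hL
  obtain ⟨s, t, s1, s2, t1, t3, st5, hgen⟩ := A5_gens
  set f : alternatingGroup (Fin 5) →* G0 := L.subtype.comp e.symm.toMonoidHom with hf
  have finj : Function.Injective f := L.subtype_injective.comp e.symm.injective
  have hne : ∀ {x : alternatingGroup (Fin 5)}, x ≠ 1 → f x ≠ 1 := fun hx h =>
    hx (finj (h.trans (map_one f).symm))
  obtain ⟨g, hg⟩ := exists_conj_standard (f s) (by rw [← map_pow, s2, map_one]) (hne s1)
  obtain ⟨y, hy⟩ := mk0_surjective (g⁻¹ * f t * g)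
  have hc : ∀ (x : G0) (n : ℕ), (g⁻¹ * x * g) ^ n = g⁻¹ * x ^ n * g := by
    intro x n
    have := conj_pow (a := g⁻¹) (b := x) (i := n)
    simpa using this
  have hrels : rels (ent y) = true := by
    have r1 : isPM (pow4 (ent y) 3) = true := by
      rw [← ent_pow, ← mk0_eq_one_iff, map_pow, hy, hc, ← map_pow, t3]; simp
    have r2 : ¬ isPM (ent y) = true := by
      rw [← mk0_eq_one_iff, hy]
      intro h
      refine hne t1 ?_
      rw [mul_eq_one_iff_eq_inv, mul_eq_left, ] at h
      exact h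
    have r3 : isPM (pow4 (mul4 (0, 1, -1, 0) (ent y)) 5) = true := by
      rw [← ent_mat 0 1 (-1) 0 (by ring), ← ent_mul, ← ent_pow, ← mk0_eq_one_iff, map_pow,
        map_mul, hy, ← hg]
      rw [show g⁻¹ * f s * g * (g⁻¹ * f t * g) = g⁻¹ * (f s * f t) * g by group, hc, ← map_mul,
        ← map_pow, st5]
      simp
    simp [rels, r1, r2, r3]
  have hc2 := common_of_rels _ _ _ _ (det_eq y) hrels
  simp only [common, List.any_eq_true, Bool.or_eq_true, Bool.and_eq_true, fixes, beq_iff_eq] at hc2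
  obtain ⟨j, -, hj⟩ := hc2
  obtain ⟨b, hS, hY⟩ : ∃ b, act b (mk0 (mat 0 1 (-1) 0 (by ring))) j = j ∧ act b (mk0 y) j = j := by
    rcases hj with hj | hj
    · exact ⟨true, hj.1, hj.2⟩
    · exact ⟨false, hj.1, hj.2⟩
  refine ⟨b, act b g j, Subgroup.eq_of_le_of_card_ge ?_ ?_⟩
  · have hmem : ∀ x, act b (g⁻¹ * x * g) j = j → x ∈ St b (act b g j) := by
      intro x hx
      rw [mem_St]
      rwa [map_mul, map_mul, map_inv, Equiv.Perm.mul_apply, Equiv.Perm.mul_apply,
        Equiv.Perm.inv_eq_iff_eq] at hx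
    have hr : L = Subgroup.map f (Subgroup.closure {s, t}) := by
      rw [hgen, ← MonoidHom.range_eq_map, hf, MonoidHom.range_comp,
        MonoidHom.range_eq_top.mpr e.symm.surjective, ← MonoidHom.range_eq_map,
        Subgroup.range_subtype]
    rw [hr, MonoidHom.map_closure, Subgroup.closure_le]
    rintro _ ⟨x, hx | hx, rfl⟩
    · rw [hx]; exact hmem _ (by rw [hg]; exact hS)
    · rw [Set.mem_singleton_iff] at hx; rw [hx]; exact hmem _ (by rw [← hy]; exact hY)
  · rw [card_St, Nat.card_congr e.toEquiv, nat_card_alternatingGroup, Nat.card_fin]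
    rfl

theorem St_true_ne_false (j k : F11) : St true j ≠ St false k := by
  intro h
  set g := mk0 (mat 1 j 0 1 (by ring)) with hg
  have h' := congrArg (MulAut.conj g⁻¹ • ·) h
  simp only [St_conj] at h'
  rw [show act true g⁻¹ j = 0 from by
    rw [map_inv, Equiv.Perm.inv_eq_iff_eq, act_trans true j]] at h'
  obtain ⟨a, b, c, d, hd, hf, hn⟩ := stab_AB (act false g⁻¹ k)
  simp only [fixes, beq_iff_eq, beq_eq_false_iff_ne] at hf hn
  have hm : mk0 (mat a b c d hd) ∈ St true 0 := mem_St.mpr hf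
  rw [h', mem_St] at hm
  exact hn hm

theorem St_injective (b : Bool) {j k : F11} (h : St b j = St b k) : j = k := by
  set g := mk0 (mat 1 j 0 1 (by ring)) with hg
  have h' := congrArg (MulAut.conj g⁻¹ • ·) h
  simp only [St_conj] at h'
  have hj : act b g⁻¹ j = 0 := by rw [map_inv, Equiv.Perm.inv_eq_iff_eq, act_trans b j]
  rw [hj] at h'
  by_contra hne
  have hk : act b g⁻¹ k ≠ 0 := fun e => hne ((act b g⁻¹).injective (hj.trans e.symm))
  have hex : ∃ a p c d : F11, a * d - p * c = 1 ∧ fixes (yy b) (a, p, c, d) 0 = true ∧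
      fixes (yy b) (a, p, c, d) (act b g⁻¹ k) = false := by
    cases b
    · exact stab_BB _ hk
    · exact stab_AA _ hk
  obtain ⟨a, p, c, d, hd, hf, hn⟩ := hex
  simp only [fixes, beq_iff_eq, beq_eq_false_iff_ne] at hf hn
  have hm : mk0 (mat a p c d hd) ∈ St b 0 := mem_St.mpr hf
  rw [h', mem_St] at hm
  exact hn hm

/-- The outer automorphism of `SL(2, 11)`. -/
def twistSL : SL(2, F11) ≃* SL(2, F11) where
  toFun g := mat (g 0 0) (2 * g 0 1) (6 * g 1 0) (g 1 1) (by
    have h26 : (2 : F11) * 6 = 1 := by decide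
    linear_combination det_eq g - (g 0 1 * g 1 0) * h26)
  invFun g := mat (g 0 0) (6 * g 0 1) (2 * g 1 0) (g 1 1) (by
    have h26 : (2 : F11) * 6 = 1 := by decide
    linear_combination det_eq g - (g 0 1 * g 1 0) * h26)
  left_inv g := ent_injective (by
    have h : (2 : F11) * 6 = 1 := by decide
    simp [ent, mat, ← mul_assoc, h, mul_comm (6 : F11) 2])
  right_inv g := ent_injective (by
    have h : (2 : F11) * 6 = 1 := by decide
    simp [ent, mat, ← mul_assoc, h, mul_comm (6 : F11) 2])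
  map_mul' g h := by
    have h26 : (2 : F11) * 6 = 1 := by decide
    have e00 := congrArg Prod.fst (ent_mul g h)
    have e01 := congrArg (fun p => p.2.1) (ent_mul g h)
    have e10 := congrArg (fun p => p.2.2.1) (ent_mul g h)
    have e11 := congrArg (fun p => p.2.2.2) (ent_mul g h)
    simp only [ent, mul4] at e00 e01 e10 e11
    apply ent_injective
    rw [ent_mul]
    simp only [ent_mat, mul4, e00, e01, e10, e11, Prod.mk.injEq]
    refine ⟨?_, by ring, by ring, ?_⟩
    · linear_combination (-(g 0 1 * h 1 0)) * h26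
    · linear_combination (-(g 1 0 * h 0 1)) * h26

theorem ent_twistSL (g : SL(2, F11)) :
    ent (twistSL g) = (g 0 0, 2 * g 0 1, 6 * g 1 0, g 1 1) := rfl

theorem map_center {G H : Type*} [Group G] [Group H] (φ : G ≃* H) :
    (Subgroup.center G).map φ.toMonoidHom = Subgroup.center H := by
  ext x
  rw [Subgroup.mem_map_equiv, Subgroup.mem_center_iff, Subgroup.mem_center_iff]
  constructor
  · intro h y
    simpa using congrArg φ (h (φ.symm y))
  · intro h y
    simpa using congrArg φ.symm (h (φ y))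

/-- The outer automorphism of `PSL(2, 11)`. -/
noncomputable def twist : G0 ≃* G0 :=
  QuotientGroup.congr _ _ twistSL
    (map_center twistSL)

theorem twist_mk0 (g : SL(2, F11)) : twist (mk0 g) = mk0 (twistSL g) := rfl

theorem nonempty_iso_A5 (b : Bool) (j : F11) :
    Nonempty (St b j ≃* alternatingGroup (Fin 5)) := by
  have hcard : Fintype.card F11 = 11 := ZMod.card 11
  have := Dickson.charP_of_card 11 hcard
  obtain ⟨H, -, ⟨e⟩⟩ := Dickson.exists_max_A5 (F := F11) 11 (Or.inl ⟨hcard, Or.inl rfl⟩)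
  obtain ⟨b₀, j₀, hH⟩ := eq_St_of_A5 H ⟨e⟩
  obtain ⟨k₀, hk₀⟩ := twist_exists
  have htw : (St true 0).map twist.toMonoidHom = St false k₀ := by
    ext x
    rw [Subgroup.mem_map_equiv]
    obtain ⟨z, rfl⟩ := twist.surjective x
    obtain ⟨g, rfl⟩ := mk0_surjective z
    rw [MulEquiv.symm_apply_apply, mem_St, mem_St, twist_mk0]
    have := hk₀ _ _ _ _ (det_eq g)
    rw [Bool.eq_iff_iff] at this
    have he := ent_twistSL g
    simp only [ent, Prod.mk.injEq] at he
    rw [act_mk0, act_mk0, he.1, he.2.1, he.2.2.1, he.2.2.2]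
    simpa [fixes, yy] using this
  have hconj : ∀ (c : Bool) (i i' : F11), Nonempty (St c i ≃* St c i') := by
    intro c i i'
    have hh : MulAut.conj (mk0 (mat 1 i' 0 1 (by ring)) * (mk0 (mat 1 i 0 1 (by ring)))⁻¹) •
        St c i = St c i' := by
      rw [St_conj]
      congr 1
      rw [map_mul, map_inv, Equiv.Perm.mul_apply]
      rw [show (act c (mk0 (mat 1 i 0 1 (by ring))))⁻¹ i = 0 from by
        rw [Equiv.Perm.inv_eq_iff_eq, act_trans c i], act_trans c i']
    exact ⟨(Subgroup.equivSMul _ _).trans (MulEquiv.subgroupCongr hh)⟩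
  have hTF : Nonempty (St true 0 ≃* St false k₀) :=
    ⟨((St true 0).equivMapOfInjective twist.toMonoidHom twist.injective).trans
      (MulEquiv.subgroupCongr htw)⟩
  subst hH
  obtain ⟨t1⟩ := hTF
  cases b₀ <;> cases b
  · exact ⟨(hconj _ j j₀).some.trans e⟩
  · exact ⟨(hconj _ j 0).some.trans (t1.trans ((hconj _ k₀ j₀).some.trans e))⟩
  · exact ⟨(hconj _ j k₀).some.trans (t1.symm.trans ((hconj _ 0 j₀).some.trans e))⟩
  · exact ⟨(hconj _ j j₀).some.trans e⟩

theorem iff_St (L : Subgroup G0) :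
    Nonempty (L ≃* alternatingGroup (Fin 5)) ↔ ∃ b j, L = St b j :=
  ⟨eq_St_of_A5 L, fun ⟨b, j, h⟩ => h ▸ nonempty_iso_A5 b j⟩

theorem card_A5_subgroups :
    Nat.card {H : Subgroup G0 // Nonempty (H ≃* alternatingGroup (Fin 5))} = 22 := by
  rw [← Nat.card_congr (Equiv.ofBijective
    (fun p : Bool × F11 => (⟨St p.1 p.2, nonempty_iso_A5 p.1 p.2⟩ :
      {H : Subgroup G0 // Nonempty (H ≃* alternatingGroup (Fin 5))})) ⟨?_, ?_⟩)]
  · rw [Nat.card_prod, Nat.card_zmod, Nat.card_eq_fintype_card, Fintype.card_bool]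
  · rintro ⟨b, j⟩ ⟨b', j'⟩ h
    have h' : St b j = St b' j' := congrArg Subtype.val h
    cases b <;> cases b'
    · rw [St_injective _ h']
    · exact absurd h'.symm (St_true_ne_false _ _)
    · exact absurd h' (St_true_ne_false _ _)
    · rw [St_injective _ h']
  · rintro ⟨H, hH⟩
    obtain ⟨b, j, rfl⟩ := eq_St_of_A5 H hH
    exact ⟨(b, j), rfl⟩

theorem act_two_transitive (i j k l : F11) (hij : i ≠ j) (hkl : k ≠ l) :
    ∃ g : G0, act true g i = k ∧ act true g j = l := by
  have key : ∀ i j : F11, i ≠ j → ∃ g : G0, act true g i = 0 ∧ act true g j = 1 := by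
    intro i j hij
    set t := mk0 (mat 1 i 0 1 (by ring)) with ht
    have hi : act true t⁻¹ i = 0 := by rw [map_inv, Equiv.Perm.inv_eq_iff_eq, act_trans true i]
    have hj : act true t⁻¹ j ≠ 0 := fun e => hij ((act true t⁻¹).injective (hi.trans e.symm))
    obtain ⟨a, b, c, d, hd, h0, h1⟩ := stab_move _ hj
    refine ⟨mk0 (mat a b c d hd) * t⁻¹, ?_, ?_⟩
    · rw [map_mul, Equiv.Perm.mul_apply, hi]; exact h0
    · rw [map_mul, Equiv.Perm.mul_apply]; exact h1
  obtain ⟨g, g0, g1⟩ := key i j hij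
  obtain ⟨g', g0', g1'⟩ := key k l hkl
  refine ⟨g'⁻¹ * g, ?_, ?_⟩ <;>
    rw [map_mul, map_inv, Equiv.Perm.mul_apply, Equiv.Perm.inv_eq_iff_eq]
  · rw [g0, g0']
  · rw [g1, g1']

/-- The coset action at a stabilizer is two-transitive. -/
theorem coset_two_pretransitive {G : Type*} [Group G] (e : G0 ≃* G) :
    IsMultiplyPretransitive G (G ⧸ (St true 0).map e.toMonoidHom) 2 := by
  rw [is_two_pretransitive_iff]
  intro a b c d hab hcd
  induction a using QuotientGroup.induction_on with | H a => ?_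
  induction b using QuotientGroup.induction_on with | H b => ?_
  induction c using QuotientGroup.induction_on with | H c => ?_
  induction d using QuotientGroup.induction_on with | H d => ?_
  have hiff : ∀ x y : G, ((x : G ⧸ (St true 0).map e.toMonoidHom) = y) ↔
      act true (e.symm x) 0 = act true (e.symm y) 0 := by
    intro x y
    rw [QuotientGroup.eq, Subgroup.mem_map_equiv, mem_St, map_mul, map_mul, map_inv, map_inv,
      Equiv.Perm.mul_apply, Equiv.Perm.inv_eq_iff_eq]
    exact eq_comm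
  obtain ⟨g, hg1, hg2⟩ := act_two_transitive _ _ _ _ (fun h => hab ((hiff a b).mpr h))
    (fun h => hcd ((hiff c d).mpr h))
  refine ⟨e g, ?_, ?_⟩
  · show (((e g * a : G)) : G ⧸ (St true 0).map e.toMonoidHom) = _
    rw [hiff, map_mul, MulEquiv.symm_apply_apply, map_mul, Equiv.Perm.mul_apply, hg1]
  · show (((e g * b : G)) : G ⧸ (St true 0).map e.toMonoidHom) = _
    rw [hiff, map_mul, MulEquiv.symm_apply_apply, map_mul, Equiv.Perm.mul_apply, hg2]

/-- Base change along an isomorphism of fields. -/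
noncomputable def pslEquivOfRingEquiv {K L : Type*} [Field K] [Field L] (f : K ≃+* L) :
    Matrix.ProjectiveSpecialLinearGroup (Fin 2) K ≃* Matrix.ProjectiveSpecialLinearGroup (Fin 2) L :=
  let φ : SL(2, K) ≃* SL(2, L) :=
    MulEquiv.ofBijective (Matrix.SpecialLinearGroup.map (f : K →+* L))
      ⟨fun a b h => by
        ext i j
        exact f.injective (congrArg (fun m : SL(2, L) => m i j) h),
       fun b => ⟨Matrix.SpecialLinearGroup.map (f.symm : L →+* K) b, by
        ext i j
        exact f.apply_symm_apply (b i j)⟩⟩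
  QuotientGroup.congr _ _ φ
    (map_center φ)

end CfsgLib.H29.PSLEleven
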